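import Cfsg.Agent.H831.SmallCoOct
import Cfsg.Agent.CTwoTab.Co1
import Cfsg.Agent.CoOneType.InvMain
import Cfsg.Agent.H956.CDelgado

/-!
# Abelian subgroups of `C(s) / ⟨s⟩`, `s` an involution of `Co₁` (helper341, for helper199: S2501, S2502)

* `card_cube_le` : an abelian group acting faithfully on `n` points has order at most `3 ^ (n / 3)`;
* `co1_quot` : a subgroup `B` of `C(s)` with `[B, B] ≤ ⟨s⟩` has order at most `19600000`.
-/

set_option autoImplicit false

namespace Cfsg.Agent.H341.AbCo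

open Subgroup Cfsg Cfsg.Spor

/-! ### abelian permutation groups -/

theorem cube_le_pow (n : ℕ) : n ^ 3 ≤ 3 ^ n := by
  rcases Nat.lt_or_ge n 3 with h | h
  · interval_cases n <;> norm_num
  · induction n, h using Nat.le_induction with
    | base => norm_num
    | succ n hn ih =>
      have h1 : (n + 1) ^ 3 ≤ 3 * n ^ 3 := by nlinarith [mul_self_nonneg n, Nat.mul_le_mul hn hn, Nat.mul_le_mul (Nat.mul_le_mul hn hn) hn]
      calc (n + 1) ^ 3 ≤ 3 * n ^ 3 := h1
        _ ≤ 3 * 3 ^ n := Nat.mul_le_mul_left _ ih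
        _ = 3 ^ (n + 1) := by rw [pow_succ, mul_comm]

theorem card_cube_le {A Ω : Type*} [Group A] [Finite Ω] [MulAction A Ω] [FaithfulSMul A Ω]
    (hc : ∀ a b : A, a * b = b * a) : Nat.card A ^ 3 ≤ 3 ^ Nat.card Ω := by
  classical
  obtain ⟨Q, hQ⟩ : ∃ Q, Q = MulAction.orbitRel.Quotient A Ω := ⟨_, rfl⟩
  have hfin : Finite (MulAction.orbitRel.Quotient A Ω) := inferInstance
  let _ : Fintype (MulAction.orbitRel.Quotient A Ω) := Fintype.ofFinite _
  let f : A → ∀ q : MulAction.orbitRel.Quotient A Ω, q.orbit := fun a q =>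
    ⟨a • Quotient.out q, by
      rw [MulAction.orbitRel.Quotient.mem_orbit]
      have h1 : (Quotient.mk'' (a • Quotient.out q) : MulAction.orbitRel.Quotient A Ω) =
          Quotient.mk'' (Quotient.out q) := Quotient.sound (by
        exact ⟨a, rfl⟩)
      rw [h1]
      exact Quotient.out_eq' q⟩
  have hf : Function.Injective f := by
    intro a b hab
    apply FaithfulSMul.eq_of_smul_eq_smul (α := Ω)
    intro x
    obtain ⟨c, hcx⟩ : ∃ c : A, c • Quotient.out (Quotient.mk'' x : MulAction.orbitRel.Quotient A Ω) = x := by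
      have h1 : (MulAction.orbitRel A Ω) x (Quotient.out (Quotient.mk'' x : MulAction.orbitRel.Quotient A Ω)) :=
        Quotient.exact (Quotient.out_eq' _).symm
      exact h1
    have h2 : a • Quotient.out (Quotient.mk'' x : MulAction.orbitRel.Quotient A Ω) =
        b • Quotient.out (Quotient.mk'' x : MulAction.orbitRel.Quotient A Ω) :=
      congrArg Subtype.val (congrFun hab (Quotient.mk'' x))
    rw [← hcx, smul_smul, smul_smul, hc a c, hc b c, mul_smul, mul_smul, h2]
  have h1 : Nat.card A ≤ Nat.card (∀ q : MulAction.orbitRel.Quotient A Ω, q.orbit) :=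
    Nat.card_le_card_of_injective f hf
  rw [Nat.card_pi] at h1
  have h2 : Nat.card Ω = ∑ q : MulAction.orbitRel.Quotient A Ω, Nat.card q.orbit := by
    rw [Nat.card_congr (MulAction.selfEquivSigmaOrbits' A Ω), Nat.card_sigma]
  calc Nat.card A ^ 3 ≤ (∏ q : MulAction.orbitRel.Quotient A Ω, Nat.card q.orbit) ^ 3 := Nat.pow_le_pow_left h1 3
    _ = ∏ q : MulAction.orbitRel.Quotient A Ω, Nat.card q.orbit ^ 3 := (Finset.prod_pow _ _ _).symm
    _ ≤ ∏ q : MulAction.orbitRel.Quotient A Ω, 3 ^ Nat.card q.orbit :=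
        Finset.prod_le_prod' fun q _ => cube_le_pow _
    _ = 3 ^ Nat.card Ω := by rw [Finset.prod_pow_eq_pow_sum, h2]

/-! ### general facts -/

theorem card_le_map {G H : Type*} [Group G] [Group H] [Finite G] (f : G →* H) (B : Subgroup G) :
    Nat.card B ≤ Nat.card (B.map f) * Nat.card f.ker := by
  have h4 := Subgroup.card_mul_index ((f.comp B.subtype).ker)
  have h6 : ((f.comp B.subtype).ker).index = Nat.card (B.map f) := by
    rw [Subgroup.index_ker, MonoidHom.range_comp, Subgroup.range_subtype]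
  have h5 : Nat.card (f.comp B.subtype).ker ≤ Nat.card f.ker :=
    Nat.card_le_card_of_injective (fun x : (f.comp B.subtype).ker => (⟨x.1.1, x.2⟩ : f.ker)) fun x y hxy =>
      Subtype.ext (Subtype.ext (congrArg (fun z : f.ker => (z : G)) hxy))
  rw [← h4, h6, mul_comm]
  exact Nat.mul_le_mul_left _ h5

theorem card_le_relIndex {G : Type*} [Group G] [Finite G] {B C L : Subgroup G} (hBC : B ≤ C) (hLC : L ≤ C) {m : ℕ}
    (hC : Nat.card C ≤ m * Nat.card L) : Nat.card B ≤ m * Nat.card (B ⊓ L : Subgroup G) := by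
  have h1 : L.relIndex B ≤ L.relIndex C :=
    Subgroup.relIndex_le_of_le_right hBC (Subgroup.index_ne_zero_of_finite (H := L.subgroupOf C))
  have h2 : Nat.card L * L.relIndex C = Nat.card C := by
    rw [← Nat.card_congr (Subgroup.subgroupOfEquivOfLe hLC).toEquiv]
    exact Subgroup.card_mul_index _
  have h3 : L.relIndex C ≤ m := by
    have h0 : 0 < Nat.card L := Nat.card_pos
    by_contra h
    push Not at h
    have : m * Nat.card L < Nat.card L * L.relIndex C := by
      rw [mul_comm]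
      exact Nat.mul_lt_mul_of_pos_left h h0
    omega
  have h4 : Nat.card (B ⊓ L : Subgroup G) * L.relIndex B = Nat.card B := by
    rw [← Subgroup.inf_relIndex_left B L, ← Nat.card_congr (Subgroup.subgroupOfEquivOfLe (inf_le_left : B ⊓ L ≤ B)).toEquiv]
    exact Subgroup.card_mul_index _
  rw [← h4, mul_comm]
  exact Nat.mul_le_mul_right _ (h1.trans h3)

/-! ### the three classes -/

open Cfsg.Agent.SporadicA.Co0Mono
open Cfsg.Agent.SporadicA.Co1Simple (allOne exists_sign_perm)
open Cfsg.Agent.CoOneType.SignFacts (wt)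
open Cfsg.Agent.CoOneType.ClosingFacts (mk mk_mul mk_inv exists_mk mk_eq_one mk_eq)
open Cfsg.Agent.CoOneType.InvMain (sp_inj sp_mul)
open Cfsg.Agent.CoOneNWC.OmFacts (Om8 simple_om8 card_om8)
open Cfsg.Agent.KFacts.Co1D4

/-- the property of the involution `s` -/
def P (s : Spor.Co1) : Prop := ∀ B : Subgroup Spor.Co1, (∀ a ∈ B, a * s = s * a) →
  (∀ a ∈ B, ∀ b ∈ B, a * b = b * a ∨ a * b = b * a * s) → Nat.card B ≤ 19600000

theorem P.conj {s : Spor.Co1} (h : P s) (g : Spor.Co1) : P (g * s * g⁻¹) := by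
  intro B hB hc
  have h1 := h (B.map (MulAut.conj g⁻¹).toMonoidHom) ?_ ?_
  · rwa [Subgroup.card_map_of_injective (MulAut.conj g⁻¹).injective] at h1
  · rintro _ ⟨a, ha, rfl⟩
    show g⁻¹ * a * g⁻¹⁻¹ * s = s * (g⁻¹ * a * g⁻¹⁻¹)
    have := hB a ha
    rw [inv_inv]
    calc g⁻¹ * a * g * s = g⁻¹ * (a * (g * s * g⁻¹)) * g := by group
      _ = s * (g⁻¹ * a * g) := by rw [this]; group
  · rintro _ ⟨a, ha, rfl⟩ _ ⟨b, hb, rfl⟩
    show g⁻¹ * a * g⁻¹⁻¹ * (g⁻¹ * b * g⁻¹⁻¹) = g⁻¹ * b * g⁻¹⁻¹ * (g⁻¹ * a * g⁻¹⁻¹) ∨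
      g⁻¹ * a * g⁻¹⁻¹ * (g⁻¹ * b * g⁻¹⁻¹) = g⁻¹ * b * g⁻¹⁻¹ * (g⁻¹ * a * g⁻¹⁻¹) * s
    rw [inv_inv]
    have e0 : g⁻¹ * a * g * (g⁻¹ * b * g) = g⁻¹ * (a * b) * g := by group
    rcases hc a ha b hb with e | e
    · left
      rw [e0, e]; group
    · right
      rw [e0, e]; group

theorem oct {o : golayCode} (ho : wt o = 8) : P (mk (signCo0 o)) := by
  have hfin := H813.CoLarge.finite_co1
  intro B hB hc
  obtain ⟨π, hπ, hker⟩ := H831.SmallCo.exists_oct ho
  obtain ⟨C, hC⟩ : ∃ C, C = centralizer ({mk (signCo0 o)} : Set Spor.Co1) := ⟨_, rfl⟩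
  have hBC : B ≤ centralizer ({mk (signCo0 o)} : Set Spor.Co1) := fun a ha => by
    rw [mem_centralizer_singleton_iff]; exact hB a ha
  have hz : mk (signCo0 o) ∈ centralizer ({mk (signCo0 o)} : Set Spor.Co1) := by
    rw [mem_centralizer_singleton_iff]
  have hs8 := simple_om8
  have hna : ¬ IsMulCommutative Om8 := by
    intro h
    have h1 := H956.CDelgado.card_sq_lt_of_comm (G := Om8)
    have h2 : IsSimpleGroup Om8 := hs8
    have hp : (Nat.card Om8).Prime := by
      have : CommGroup Om8 := { (inferInstance : Group Om8) with mul_comm := h.is_comm.comm }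
      exact absurd h (H831.SmallCo.not_comm_of_card (by rw [card_om8]; norm_num))
    rw [card_om8] at hp
    norm_num at hp
  have hz1 : π ⟨mk (signCo0 o), hz⟩ = 1 := by
    have h1 : π ⟨mk (signCo0 o), hz⟩ ∈ center Om8 := by
      rw [mem_center_iff]
      intro y
      obtain ⟨⟨x, hx⟩, rfl⟩ := hπ y
      rw [← map_mul, ← map_mul]
      congr 1
      exact Subtype.ext (mem_centralizer_singleton_iff.1 hx)
    rcases (inferInstance : (center Om8).Normal).eq_bot_or_eq_top with h2 | h2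
    · rw [h2, mem_bot] at h1
      exact h1
    · exfalso
      apply hna
      refine ⟨⟨fun a b => ?_⟩⟩
      have ha : a ∈ center Om8 := by rw [h2]; exact mem_top a
      exact (mem_center_iff.1 ha b).symm
  have h1 := H956.CDelgado.card_sq_lt_of_comm hna
    ((B.subgroupOf (centralizer ({mk (signCo0 o)} : Set Spor.Co1))).map π) (by
      rintro _ ⟨⟨a, ha⟩, ha', rfl⟩ _ ⟨⟨b, hb⟩, hb', rfl⟩
      have ha2 : a ∈ B := ha'
      have hb2 : b ∈ B := hb'
      rw [← map_mul, ← map_mul]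
      rcases hc a ha2 b hb2 with e | e
      · congr 1
        exact Subtype.ext e
      · have e' : (⟨a, ha⟩ : ↥(centralizer ({mk (signCo0 o)} : Set Spor.Co1))) * ⟨b, hb⟩ =
            ⟨b, hb⟩ * ⟨a, ha⟩ * ⟨mk (signCo0 o), hz⟩ := Subtype.ext e
        rw [e', map_mul, hz1, mul_one])
  rw [card_om8] at h1
  have h2 : Nat.card ((B.subgroupOf (centralizer ({mk (signCo0 o)} : Set Spor.Co1))).map π) ≤ 13197 := by
    by_contra h
    push Not at h
    have h5 := Nat.pow_le_pow_left (Nat.succ_le_of_lt h) 2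
    exact absurd (lt_of_le_of_lt h5 h1) (by norm_num)
  have h3 := card_le_map π (B.subgroupOf (centralizer ({mk (signCo0 o)} : Set Spor.Co1)))
  rw [hker, Nat.card_congr (Subgroup.subgroupOfEquivOfLe hBC).toEquiv] at h3
  calc Nat.card B ≤ _ := h3
    _ ≤ 13197 * 2 ^ 9 := Nat.mul_le_mul_right _ h2
    _ ≤ 19600000 := by norm_num

theorem twoB : P TwoB.w := by
  have hfin := H813.CoLarge.finite_co1
  have S := Main.setup
  intro B hB hc
  have hBC : B ≤ centralizer ({TwoB.w} : Set Spor.Co1) := fun a ha => by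
    rw [mem_centralizer_singleton_iff]; exact hB a ha
  have hLC : GTwo.L ≤ centralizer ({TwoB.w} : Set Spor.Co1) := fun a ha => by
    rw [mem_centralizer_singleton_iff]; exact TwoB.Lw a ha
  have h1 := card_le_relIndex hBC hLC S.card
  have hs := S.simple
  have hna : ¬ IsMulCommutative ↥GTwo.L :=
    H831.SmallCo.not_comm_of_card (by rw [GTwo.card_L]; norm_num)
  have hw : TwoB.w ∉ GTwo.L := by
    intro h
    have h2 : (⟨TwoB.w, h⟩ : ↥GTwo.L) ∈ center ↥GTwo.L := by
      rw [mem_center_iff]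
      rintro ⟨l, hl⟩
      exact Subtype.ext (TwoB.Lw l hl)
    rw [CTwoTab.Co1.center_L, mem_bot] at h2
    exact TwoB.w_ne (congrArg Subtype.val h2)
  have h2 := H956.CDelgado.card_sq_lt_of_comm hna ((B ⊓ GTwo.L).subgroupOf GTwo.L) (by
    rintro ⟨a, ha⟩ ha' ⟨b, hb⟩ hb'
    have ha2 : a ∈ B := ha'.1
    have hb2 : b ∈ B := hb'.1
    apply Subtype.ext
    show a * b = b * a
    rcases hc a ha2 b hb2 with e | e
    · exact e
    · exfalso
      apply hw
      have : TwoB.w = (b * a)⁻¹ * (a * b) := by rw [e]; group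
      rw [this]
      exact mul_mem (inv_mem (mul_mem hb ha)) (mul_mem ha hb))
  rw [Nat.card_congr (Subgroup.subgroupOfEquivOfLe (inf_le_right : B ⊓ GTwo.L ≤ GTwo.L)).toEquiv, GTwo.card_L] at h2
  have h3 : Nat.card (B ⊓ GTwo.L : Subgroup Spor.Co1) ≤ 15862 := by
    by_contra h
    push Not at h
    have h5 := Nat.pow_le_pow_left (Nat.succ_le_of_lt h) 2
    exact absurd (lt_of_le_of_lt h5 h2) (by norm_num)
  omega

/-- the permutation of a monomial element -/
theorem uniq {a b : golayCode} {σ τ : M24} (h : mk (signCo0 a * permCo0 σ) = mk (signCo0 b * permCo0 τ)) : σ = τ := by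
  rcases (mk_eq _ _).1 h with h1 | h1
  · exact (sp_inj h1).2
  · have h2 : signCo0 b * permCo0 τ * signCo0 allOne = signCo0 b * permCo0 τ * (signCo0 allOne * permCo0 1) := by
      rw [map_one, mul_one]
    rw [h2, sp_mul] at h1
    have := (sp_inj h1).2
    rwa [mul_one] at this

theorem card_sgn : Nat.card ↥CTwoTab.Co1.sgn.range ≤ 2048 := by
  have h6 := Subgroup.card_mul_index CTwoTab.Co1.sgn.ker
  have hcard : Nat.card (Multiplicative golayCode) = 4096 := Cfsg.Agent.S0358.card_golayCode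
  rw [hcard, Subgroup.index_ker] at h6
  have hfin : Finite (Multiplicative golayCode) := Nat.finite_of_card_ne_zero (by rw [hcard]; norm_num)
  have h1 : 1 < Nat.card ↥CTwoTab.Co1.sgn.ker := by
    rw [Finite.one_lt_card_iff_nontrivial]
    refine ⟨⟨Multiplicative.ofAdd allOne, ?_⟩, 1, ?_⟩
    · rw [MonoidHom.mem_ker]
      show mk (signCo0 allOne) = 1
      exact (mk_eq_one _).2 (Or.inr rfl)
    · intro h
      have h2 : (allOne : golayCode) = 0 := congrArg (fun x : ↥CTwoTab.Co1.sgn.ker => (x : Multiplicative golayCode).toAdd) h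
      have h3 := congrArg (fun c : golayCode => (c : GolayPt → ZMod 2) none) h2
      exact absurd h3 (by decide)
  have h7 : 2 * Nat.card ↥CTwoTab.Co1.sgn.range ≤ Nat.card ↥CTwoTab.Co1.sgn.ker * Nat.card ↥CTwoTab.Co1.sgn.range :=
    Nat.mul_le_mul_right _ h1
  omega

theorem dod {d : golayCode} (hd : wt d = 12) : P (mk (signCo0 d)) := by
  classical
  have hfin := H813.CoLarge.finite_co1
  intro B hB hc
  have hex : ∀ k : B, ∃ (a : golayCode) (σ : M24), (k : Spor.Co1) = mk (signCo0 a * permCo0 σ) := by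
    rintro ⟨k, hk⟩
    obtain ⟨g, rfl⟩ := exists_mk k
    obtain ⟨a, σ, rfl⟩ := exists_sign_perm (DodBal.mem_N hd (hB _ hk))
    exact ⟨a, σ, rfl⟩
  choose f g hfg using hex
  have hmul : ∀ x y : B, (x : Spor.Co1) * y = mk (signCo0 (f x + wordPerm (g x) (f y)) * permCo0 (g x * g y)) := by
    intro x y
    rw [hfg x, hfg y, ← mk_mul, sp_mul]
  let θ : B →* M24 := MonoidHom.mk' g fun x y => uniq (a := f (x * y)) (b := f x + wordPerm (g x) (f y)) (by
    rw [← hmul, ← hfg]; rfl)
  have hθ : ∀ x, θ x = g x := fun _ => rfl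
  have hcomm : ∀ a b : θ.range, a * b = b * a := by
    rintro ⟨_, x, rfl⟩ ⟨_, y, rfl⟩
    apply Subtype.ext
    show θ x * θ y = θ y * θ x
    rw [hθ, hθ]
    rcases hc x x.2 y y.2 with e | e
    · rw [hmul, hmul] at e
      exact uniq e
    · rw [hmul, hmul] at e
      have h1 : mk (signCo0 (f y + wordPerm (g y) (f x)) * permCo0 (g y * g x)) * mk (signCo0 d) =
          mk (signCo0 (f y + wordPerm (g y) (f x) + wordPerm (g y * g x) d) * permCo0 (g y * g x * 1)) := by
        rw [← sp_mul (f y + wordPerm (g y) (f x)) d (g y * g x) 1, map_one permCo0, mul_one (signCo0 d)]; rfl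
      rw [h1] at e
      have := uniq e
      rwa [mul_one] at this
  have h1 := card_cube_le (Ω := GolayPt) hcomm
  have h24 : Nat.card GolayPt = 24 := by
    rw [Nat.card_eq_fintype_card]
    decide
  rw [h24] at h1
  have h2 : Nat.card θ.range ≤ 6561 := by
    by_contra h
    push Not at h
    have h5 := Nat.pow_le_pow_left (Nat.succ_le_of_lt h) 3
    exact absurd (h5.trans h1) (by norm_num)
  have h3 : Nat.card θ.ker ≤ Nat.card ↥CTwoTab.Co1.sgn.range := by
    refine Nat.card_le_card_of_injective (fun x : θ.ker => (⟨((x : B) : Spor.Co1), ?_⟩ : ↥CTwoTab.Co1.sgn.range)) ?_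
    · refine ⟨Multiplicative.ofAdd (f x), ?_⟩
      have h4 : g x = 1 := x.2
      show mk (signCo0 (f x)) = _
      rw [hfg x, h4, map_one, mul_one]
    · intro x y hxy
      exact Subtype.ext (Subtype.ext (congrArg (fun z : ↥CTwoTab.Co1.sgn.range => (z : Spor.Co1)) hxy))
  have h4 := Subgroup.card_mul_index θ.ker
  rw [Subgroup.index_ker] at h4
  rw [← h4]
  calc Nat.card θ.ker * Nat.card θ.range ≤ 2048 * 6561 := Nat.mul_le_mul (h3.trans card_sgn) h2
    _ ≤ 19600000 := by norm_num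

/-- **`Co₁`: abelian subgroups of `C(s) / ⟨s⟩`** -/
theorem co1_quot {s : Spor.Co1} (hs : orderOf s = 2) {B : Subgroup Spor.Co1} (hB : ∀ a ∈ B, a * s = s * a)
    (hc : ∀ a ∈ B, ∀ b ∈ B, a * b = b * a ∨ a * b = b * a * s) : Nat.card B ≤ 19600000 := by
  obtain ⟨g, t, ht, rfl⟩ := CTwoTab.Co1.exists_rep s hs
  refine P.conj ?_ g B hB hc
  rcases ht with ⟨o, ho, rfl⟩ | ⟨d, hd, rfl⟩ | rfl
  · exact oct ho
  · exact dod hd
  · exact twoB

end Cfsg.Agent.H341.AbCo
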